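/-
Cocycles summed over the cosets of a subgroup, and cocycles of the shape of a product of two crossed maps.
-/
import Cfsg.Agent.CentralCert.Lower

set_option autoImplicit false

namespace CfsgLib.McLMult

open CfsgLib.CentralCert

variable {G : Type*} [Group G] [Finite G] {A : Type} [AddCommGroup A]

/-- Distinct right cosets of a subgroup with the right count. -/
structure Cosets (L : Subgroup G) (n : ℕ) where
  t : Fin n → G
  dist : ∀ i j, t i * (t j)⁻¹ ∈ L → i = j
  card : n * Nat.card L = Nat.card G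

namespace Cosets

variable {L : Subgroup G} {n : ℕ} (C : Cosets L n)

theorem exists_pos (x : G) : ∃ j, x * (C.t j)⁻¹ ∈ L := by
  have hinj : Function.Injective fun p : L × Fin n => (p.1 : G) * C.t p.2 := by
    rintro ⟨a, i⟩ ⟨b, j⟩ h
    have hm : C.t i * (C.t j)⁻¹ ∈ L := by
      have e : C.t i * (C.t j)⁻¹ = (a : G)⁻¹ * (b : G) := by
        rw [mul_inv_eq_iff_eq_mul, mul_assoc, ← (show (a : G) * C.t i = (b : G) * C.t j from h), inv_mul_cancel_left]
      rw [e]
      exact L.mul_mem (L.inv_mem a.2) b.2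
    obtain rfl := C.dist i j hm
    exact Prod.ext (Subtype.ext (mul_right_cancel h)) rfl
  obtain ⟨⟨a, j⟩, hj⟩ := (hinj.bijective_of_nat_card_le (by
    rw [Nat.card_prod, Nat.card_fin, Nat.mul_comm, C.card])).2 x
  exact ⟨j, by rw [← show (a : G) * C.t j = x from hj, mul_inv_cancel_right]; exact a.2⟩

/-- The coset of an element. -/
noncomputable def pos (x : G) : Fin n := (C.exists_pos x).choose

theorem pos_spec (x : G) : x * (C.t (C.pos x))⁻¹ ∈ L := (C.exists_pos x).choose_spec

theorem pos_eq {x : G} {j : Fin n} (h : x * (C.t j)⁻¹ ∈ L) : C.pos x = j := by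
  refine C.dist _ _ ?_
  have := L.mul_mem (L.inv_mem (C.pos_spec x)) h
  simpa [mul_assoc] using this

/-- The action on the cosets. -/
noncomputable def act (i : Fin n) (x : G) : Fin n := C.pos (C.t i * x)

/-- The part in the subgroup. -/
noncomputable def lab (i : Fin n) (x : G) : L := ⟨C.t i * x * (C.t (C.act i x))⁻¹, C.pos_spec _⟩

theorem act_one (i : Fin n) : C.act i 1 = i := C.pos_eq (by simp)

theorem lab_one (i : Fin n) : C.lab i 1 = 1 := Subtype.ext (by simp [lab, act_one])

theorem act_mul (i : Fin n) (x y : G) : C.act i (x * y) = C.act (C.act i x) y := by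
  refine C.pos_eq ?_
  have := L.mul_mem (C.lab i x).2 (C.lab (C.act i x) y).2
  simpa [lab, mul_assoc] using this

theorem lab_mul (i : Fin n) (x y : G) : C.lab i (x * y) = C.lab i x * C.lab (C.act i x) y :=
  Subtype.ext (by simp [lab, act_mul, mul_assoc])

theorem act_bijective (x : G) : Function.Bijective fun i => C.act i x := by
  refine Finite.injective_iff_bijective.mp fun i j h => ?_
  have := congrArg (fun k => C.act k x⁻¹) h
  simpa [← act_mul, act_one] using this

variable (φ : Cocycle L A)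

/-- The sum over the cosets of a cocycle on the subgroup. -/
noncomputable def sumCocycle : Cocycle G A where
  F x y := ∑ i, φ.F (C.lab i x) (C.lab (C.act i x) y)
  one_left x := Finset.sum_eq_zero fun i _ => by rw [C.lab_one, φ.one_left]
  one_right x := Finset.sum_eq_zero fun i _ => by rw [C.lab_one, φ.one_right]
  cocycle x y z := by
    have hre : ∑ i, φ.F (C.lab (C.act i x) y) (C.lab (C.act (C.act i x) y) z) =
        ∑ i, φ.F (C.lab i y) (C.lab (C.act i y) z) :=
      (C.act_bijective x).sum_comp fun i => φ.F (C.lab i y) (C.lab (C.act i y) z)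
    rw [← hre, ← Finset.sum_add_distrib, ← Finset.sum_add_distrib]
    refine Finset.sum_congr rfl fun i _ => ?_
    rw [C.act_mul, C.lab_mul i x y, C.lab_mul (C.act i x) y z]
    exact φ.cocycle _ _ _

end Cosets

/-- A cocycle from a crossed map into a normalised subgroup and an invariant additive form. -/
def formCocycle (L N : Subgroup G) (t : G) (β : N → N → A)
    (hconj : ∀ g ∈ L, ∀ m : N, g * m * g⁻¹ ∈ N) (hf : ∀ g ∈ L, g * t * g⁻¹ * t⁻¹ ∈ N)
    (hl : ∀ a b c : N, β (a * b) c = β a c + β b c) (hr : ∀ a b c : N, β a (b * c) = β a b + β a c)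
    (hinv : ∀ (g : G) (hg : g ∈ L) (a b : N),
      β ⟨g * a * g⁻¹, hconj g hg a⟩ ⟨g * b * g⁻¹, hconj g hg b⟩ = β a b) : Cocycle L A where
  F x y := β ⟨(x : G) * t * (x : G)⁻¹ * t⁻¹, hf x x.2⟩
    ⟨(x : G) * ((y : G) * t * (y : G)⁻¹ * t⁻¹) * (x : G)⁻¹, hconj x x.2 ⟨_, hf y y.2⟩⟩
  one_left y := by
    have h : ∀ c : N, β 1 c = 0 := fun c => by have := hl 1 1 c; rw [mul_one] at this; simpa using this
    convert h _ using 2
    exact Subtype.ext (by simp)
  one_right x := by
    have h : ∀ c : N, β c 1 = 0 := fun c => by have := hr c 1 1; rw [mul_one] at this; simpa using this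
    convert h _ using 2
    exact Subtype.ext (by simp)
  cocycle x y z := by
    let a : N := ⟨(x : G) * t * (x : G)⁻¹ * t⁻¹, hf x x.2⟩
    let u : N := ⟨(y : G) * t * (y : G)⁻¹ * t⁻¹, hf y y.2⟩
    let w : N := ⟨(z : G) * t * (z : G)⁻¹ * t⁻¹, hf z z.2⟩
    let b : N := ⟨(x : G) * (u : G) * (x : G)⁻¹, hconj x x.2 u⟩
    let yw : N := ⟨(y : G) * (w : G) * (y : G)⁻¹, hconj y y.2 w⟩
    let c : N := ⟨(x : G) * (yw : G) * (x : G)⁻¹, hconj x x.2 yw⟩
    have e1 : (⟨((x * y : L) : G) * t * ((x * y : L) : G)⁻¹ * t⁻¹, hf _ (x * y).2⟩ : N) = b * a :=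
      Subtype.ext (by simp [a, b, u, mul_assoc])
    have e2 : (⟨((x * y : L) : G) * (w : G) * ((x * y : L) : G)⁻¹, hconj _ (x * y).2 w⟩ : N) = c :=
      Subtype.ext (by simp [c, yw, mul_assoc])
    have e3 : (⟨((y * z : L) : G) * t * ((y * z : L) : G)⁻¹ * t⁻¹, hf _ (y * z).2⟩ : N) = yw * u :=
      Subtype.ext (by simp [u, yw, w, mul_assoc])
    have e4 : (⟨(x : G) * (((y * z : L) : G) * t * ((y * z : L) : G)⁻¹ * t⁻¹) * (x : G)⁻¹,
        hconj x x.2 ⟨_, hf _ (y * z).2⟩⟩ : N) = c * b :=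
      Subtype.ext (by simp [b, c, u, yw, w, mul_assoc])
    change β a b + β ⟨_, hf _ (x * y).2⟩ ⟨_, hconj _ (x * y).2 w⟩ = β u yw + β a ⟨_, _⟩
    rw [e1, e2, e4, hl, hr, ← hinv x x.2 u yw]
    change β a b + (β b c + β a c) = β b c + (β a c + β a b)
    abel

end CfsgLib.McLMult
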