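/-
Tests for a cocycle summed over the cosets of the normaliser of a subgroup of order three.
-/
import Cfsg.Agent.McLMult.CosetCocycle
import Cfsg.Agent.Co0Model.Slp

set_option autoImplicit false

namespace CfsgLib.McLMult

open CfsgLib.ExtCert (forceN forceN_eq ev freshOK nodup_of_freshOK)
open CfsgLib.CentralCert
open CfsgLib.Co0Model (DTree)

/-- Vectors with four coordinates modulo three. -/
abbrev V4 := ZMod 3 × ZMod 3 × ZMod 3 × ZMod 3

/-- An alternating form. -/
def formV (c : List (ZMod 3)) (u w : V4) : ZMod 3 :=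
  c.getD 0 0 * (u.1 * w.2.1 - u.2.1 * w.1) + c.getD 1 0 * (u.1 * w.2.2.1 - u.2.2.1 * w.1) +
    c.getD 2 0 * (u.1 * w.2.2.2 - u.2.2.2 * w.1) + c.getD 3 0 * (u.2.1 * w.2.2.1 - u.2.2.1 * w.2.1) +
    c.getD 4 0 * (u.2.1 * w.2.2.2 - u.2.2.2 * w.2.1) + c.getD 5 0 * (u.2.2.1 * w.2.2.2 - u.2.2.2 * w.2.2.1)

theorem formV_add_left (c : List (ZMod 3)) (u u' w : V4) :
    formV c (u + u') w = formV c u w + formV c u' w := by
  simp only [formV, Prod.fst_add, Prod.snd_add]; ring

theorem formV_add_right (c : List (ZMod 3)) (u w w' : V4) :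
    formV c u (w + w') = formV c u w + formV c u w' := by
  simp only [formV, Prod.fst_add, Prod.snd_add]; ring

/-- A vector from its number. -/
def dec4 (p : ℕ) : V4 := ((p : ZMod 3), ((p / 3 : ℕ) : ZMod 3), ((p / 9 : ℕ) : ZMod 3), ((p / 27 : ℕ) : ZMod 3))

/-- An alternating form on numbered vectors. -/
def formN (c : List ℕ) (p q : ℕ) : ℕ :=
  (c.getD 0 0 * (p * (q / 3) + 2 * (p / 3 * q)) + c.getD 1 0 * (p * (q / 9) + 2 * (p / 9 * q)) +
    c.getD 2 0 * (p * (q / 27) + 2 * (p / 27 * q)) + c.getD 3 0 * (p / 3 * (q / 9) + 2 * (p / 9 * (q / 3))) +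
    c.getD 4 0 * (p / 3 * (q / 27) + 2 * (p / 27 * (q / 3))) +
    c.getD 5 0 * (p / 9 * (q / 27) + 2 * (p / 27 * (q / 9)))) % 3

theorem getD_cast (c : List ℕ) (k : ℕ) : (c.map fun n : ℕ => (n : ZMod 3)).getD k 0 = ((c.getD k 0 : ℕ) : ZMod 3) := by
  rw [List.getD_eq_getElem?_getD, List.getElem?_map, List.getD_eq_getElem?_getD]
  rcases Nat.lt_or_ge k c.length with h | h
  · rw [List.getElem?_eq_getElem h]; rfl
  · rw [List.getElem?_eq_none h]; simp

theorem formN_cast (c : List ℕ) (p q : ℕ) :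
    ((formN c p q : ℕ) : ZMod 3) = formV (c.map fun n : ℕ => (n : ZMod 3)) (dec4 p) (dec4 q) := by
  have h2 : (2 : ZMod 3) = -1 := by decide
  simp only [formN, formV, dec4, getD_cast, ZMod.natCast_mod]
  simp only [Nat.cast_add, Nat.cast_mul, Nat.cast_ofNat, h2]
  ring

/-- Read a position of a tree by primitive recursion. -/
noncomputable def rd {α : Type} (d : α) (t : DTree α) : ℕ → α :=
  DTree.rec (fun _ => d) (fun v _ _ l r i =>
    Bool.rec (Bool.rec (r (Nat.div (Nat.sub i 1) 2)) (l (Nat.div i 2)) (Nat.beq (Nat.mod i 2) 1)) v (Nat.beq i 0)) t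

/-- A table of given length: the default is returned outside. -/
noncomputable def tbl {α : Type} (d : α) (T : ℕ × DTree α) (i : ℕ) : α :=
  Bool.rec d (rd d T.2 i) (Nat.blt i T.1)

theorem tbl_default {α : Type} {T : ℕ × DTree α} {i : ℕ} (d : α) (h : T.1 ≤ i) : tbl d T i = d := by
  unfold tbl
  rw [show Nat.blt i T.1 = false by
    rw [Bool.eq_false_iff]; intro h'; rw [Nat.blt_eq] at h'; omega]

/-- The tables. -/
structure Data where
  inv : DTree ℕ
  gens : List ℕ
  nn : ℕ
  ntab : DTree ℕ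
  nval : DTree ℕ
  ntree : List (ℕ × ℕ)
  nmul : List (List ℕ)
  z : ℕ
  t : ℕ
  lgens : List (ℕ × List ℕ × ℕ)
  cgens : List ℕ
  nct : ℕ
  ctab : DTree ℕ
  ctree : DTree (ℕ × ℕ)
  reps : List (ℕ × ℕ × ℕ)
  cform : List ℕ

/-- The tables for the cosets and for a commuting pair. -/
structure Wit where
  n : ℕ
  a : ℕ
  b : ℕ
  tp : DTree (ℕ × ℕ)
  srt : DTree ℕ
  rank : DTree ℕ
  ord : DTree ℕ
  rows : DTree ℕ

/-- A field of a packed row. -/
def fld (row k : ℕ) : ℕ := row / 2 ^ (16 * k) % 2 ^ 16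

/-- A modulus for digests. -/
def digMod : ℕ := 2 ^ 61 - 1

namespace Data

variable (D : Data) (one : ℕ) (mul : ℕ → ℕ → ℕ) (B : ℕ × DTree ℕ)

/-- A code. -/
noncomputable def cd (k : ℕ) : ℕ := tbl one B k

/-- The code of the inverse. -/
noncomputable def ci (k : ℕ) : ℕ := cd one B (tbl B.1 (B.1, D.inv) k)

/-- An entry of the table of the normal subgroup. -/
noncomputable def nc (k : ℕ) : ℕ := rd one D.ntab k

/-- A vector of the normal subgroup. -/
noncomputable def nv (k : ℕ) : V4 := dec4 (rd 0 D.nval k)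

/-- The form. -/
def form : List (ZMod 3) := D.cform.map fun n : ℕ => (n : ZMod 3)

/-- The inverses are right. -/
noncomputable def invOK : Bool :=
  (List.range B.1).all fun k => Nat.beq (mul (cd one B k) (D.ci one B k)) one

/-- The table of the normal subgroup. -/
noncomputable def nOK : Bool :=
  Nat.blt 0 D.nn && Nat.beq (D.nc one 0) one && decide (D.nv 0 = (0, 0, 0, 0)) && freshOK [] ((List.range D.nn).map fun k => D.nc one k % digMod) &&
  ((List.range D.nn).all fun k => (List.range D.gens.length).all fun g =>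
    let m := (D.nmul.getD k []).getD g 0
    Nat.blt m D.nn && Nat.beq (mul (D.nc one k) (cd one B (D.gens.getD g 0))) (D.nc one m) &&
      decide (D.nv m = D.nv k + D.nv ((D.nmul.getD 0 []).getD g 0))) &&
  (List.range D.nn).all fun k => Nat.beq k 0 ||
    (Nat.blt (D.ntree.getD k (0, 0)).1 k && Nat.blt (D.ntree.getD k (0, 0)).2 D.gens.length &&
      Nat.beq ((D.nmul.getD (D.ntree.getD k (0, 0)).1 []).getD (D.ntree.getD k (0, 0)).2 0) k)

/-- The listed elements lie in the normaliser. -/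
noncomputable def lOK : Bool :=
  D.lgens.all fun e => forceN (cd one B e.1) fun g => forceN (D.ci one B e.1) fun gi =>
    (Nat.beq (mul (mul g (cd one B D.z)) gi) (cd one B D.z) ||
      Nat.beq (mul (mul g (cd one B D.z)) gi) (D.ci one B D.z)) &&
    ((List.range D.gens.length).all fun i => Nat.blt (e.2.1.getD i 0) D.nn &&
      Nat.beq (mul (mul g (cd one B (D.gens.getD i 0))) gi) (D.nc one (e.2.1.getD i 0))) &&
    ((List.range D.gens.length).all fun i => (List.range D.gens.length).all fun j =>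
      decide (formV D.form (D.nv (e.2.1.getD i 0)) (D.nv (e.2.1.getD j 0)) =
        formV D.form (D.nv ((D.nmul.getD 0 []).getD i 0)) (D.nv ((D.nmul.getD 0 []).getD j 0)))) &&
    Nat.blt e.2.2 D.nn &&
      Nat.beq (mul (mul (mul g (cd one B D.t)) gi) (D.ci one B D.t)) (D.nc one e.2.2)

/-- The generators are among the listed elements. -/
def genL : Bool :=
  (D.gens ++ D.cgens).all fun g => D.lgens.any fun e => Nat.beq e.1 g

/-- The table of elements commuting with the distinguished involution. -/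
noncomputable def cOK : Bool :=
  Nat.blt 0 D.nct && Nat.beq (rd one D.ctab 0) one &&
  freshOK [] ((List.range D.nct).map fun k => rd one D.ctab k % digMod) &&
  (D.cgens.all fun g => Nat.beq (mul (cd one B g) (cd one B D.t)) (mul (cd one B D.t) (cd one B g))) &&
  (List.range D.nct).all fun k => Nat.beq k 0 ||
    (Nat.blt (rd (0, 0) D.ctree k).1 k && Nat.blt (rd (0, 0) D.ctree k).2 D.cgens.length &&
      Nat.beq (mul (rd one D.ctab (rd (0, 0) D.ctree k).1)
        (cd one B (D.cgens.getD (rd (0, 0) D.ctree k).2 0))) (rd one D.ctab k))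

/-- Representatives with different values. -/
noncomputable def repOK : Bool :=
  (D.reps.all fun e => Nat.blt e.1 D.nn && Nat.blt e.2.1 D.nn && Nat.blt e.2.2 D.nn &&
    Nat.beq (mul (D.nc one e.1) (D.nc one e.2.1)) one &&
    Nat.beq (mul (mul (mul (D.nc one e.1) (cd one B D.t)) (D.nc one e.2.1)) (D.ci one B D.t)) (D.nc one e.2.2)) &&
  decide (D.reps.map fun e => D.nv e.2.2).Nodup

end Data

namespace Wit

variable (W : Wit) (D : Data) (one : ℕ) (mul : ℕ → ℕ → ℕ) (B : ℕ × DTree ℕ)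

/-- The code of a coset representative. -/
noncomputable def tC (i : ℕ) : ℕ := mul (Data.cd one B (rd (0, 0) W.tp i).1) (Data.cd one B (rd (0, 0) W.tp i).2)

/-- The code of its inverse. -/
noncomputable def tI (i : ℕ) : ℕ := mul (D.ci one B (rd (0, 0) W.tp i).2) (D.ci one B (rd (0, 0) W.tp i).1)

/-- The digests of the conjugates. -/
noncomputable def cosOK (lo len : ℕ) : Bool :=
  (List.range' lo len).all fun i => forceN (W.tC one mul B i) fun c => forceN (W.tI D one mul B i) fun d =>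
    forceN (rd 0 W.rank i) fun k =>
    Nat.blt k W.n && Nat.beq (rd 0 W.ord k) i &&
      Nat.beq (rd 0 W.srt k) ((mul (mul d (Data.cd one B D.z)) c + mul (mul d (D.ci one B D.z)) c) % digMod) &&
      (Nat.beq (i + 1) W.n || Nat.blt (rd 0 W.srt i) (rd 0 W.srt (i + 1)))

/-- The labels of the pair. -/
noncomputable def rowOK (lo len : ℕ) : Bool :=
  (List.range' lo len).all fun i =>
    forceN (rd 0 W.rows i) fun r =>
    forceN (W.tC one mul B i) fun c => forceN (W.tI D one mul B i) fun d =>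
    Nat.blt (fld r 0) W.n && Nat.blt (fld r 1) W.n && Nat.blt (fld r 2) D.nn &&
    Nat.blt (fld r 3) D.nn && Nat.blt (fld r 4) D.nn && Nat.blt (fld r 5) D.nn &&
    (forceN (mul (mul c (Data.cd one B W.a)) (W.tI D one mul B (fld r 0))) fun h =>
      forceN (mul (mul (W.tC one mul B (fld r 0)) (D.ci one B W.a)) d) fun hi =>
      forceN (mul (mul h (Data.cd one B D.z)) hi) fun k =>
      (Nat.beq k (Data.cd one B D.z) || Nat.beq k (D.ci one B D.z)) &&
      Nat.beq (mul (mul (mul h (Data.cd one B D.t)) hi) (D.ci one B D.t)) (D.nc one (fld r 2)) &&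
      Nat.beq (mul (mul h (D.nc one (fld (rd 0 W.rows (fld r 0)) 3))) hi) (D.nc one (fld r 4))) &&
    (forceN (mul (mul c (Data.cd one B W.b)) (W.tI D one mul B (fld r 1))) fun h =>
      forceN (mul (mul (W.tC one mul B (fld r 1)) (D.ci one B W.b)) d) fun hi =>
      forceN (mul (mul h (Data.cd one B D.z)) hi) fun k =>
      (Nat.beq k (Data.cd one B D.z) || Nat.beq k (D.ci one B D.z)) &&
      Nat.beq (mul (mul (mul h (Data.cd one B D.t)) hi) (D.ci one B D.t)) (D.nc one (fld r 3)) &&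
      Nat.beq (mul (mul h (D.nc one (fld (rd 0 W.rows (fld r 1)) 2))) hi) (D.nc one (fld r 5)))

/-- The value at the pair. -/
noncomputable def value : ZMod 3 :=
  ((List.range W.n).map fun i =>
    formV D.form (D.nv (fld (rd 0 W.rows i) 2)) (D.nv (fld (rd 0 W.rows i) 4)) -
      formV D.form (D.nv (fld (rd 0 W.rows i) 3)) (D.nv (fld (rd 0 W.rows i) 5))).sum

/-- A part of the value, as a number. -/
noncomputable def valueN (lo len : ℕ) : ℕ :=
  ((List.range' lo len).map fun i => forceN (rd 0 W.rows i) fun r =>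
    formN D.cform (rd 0 D.nval (fld r 2)) (rd 0 D.nval (fld r 4)) +
      2 * formN D.cform (rd 0 D.nval (fld r 3)) (rd 0 D.nval (fld r 5))).sum

theorem valueN_add (lo a b : ℕ) : W.valueN D lo (a + b) = W.valueN D lo a + W.valueN D (lo + a) b := by
  simp only [valueN]
  rw [← List.range'_append_1, List.map_append, List.sum_append]

theorem value_eq : W.value D = ((W.valueN D 0 W.n : ℕ) : ZMod 3) := by
  have h2 : (2 : ZMod 3) = -1 := by decide
  simp only [value, valueN, ← List.range_eq_range', Nat.cast_list_sum, List.map_map]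
  congr 1
  refine List.map_congr_left fun i _ => ?_
  simp only [Function.comp_apply, forceN_eq, Nat.cast_add, Nat.cast_mul, Nat.cast_ofNat, formN_cast, h2,
    Data.nv, Data.form]
  ring

end Wit

variable {G : Type} [Group G] [Finite G]

/-- The tables give a stem extension with kernel of order three. -/
theorem exists_stem_three (md : Model G ℕ) (D : Data) (W : Wit) {x : ℕ → G} {B : ℕ × DTree ℕ}
    (hx : ∀ i, md.enc (x i) = Data.cd md.one B i)
    (h0 : D.invOK md.one md.mul B = true) (h1 : D.nOK md.one md.mul B = true)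
    (h2 : D.lOK md.one md.mul B = true) (h2' : D.genL = true) (h3 : D.cOK md.one md.mul B = true)
    (h4 : D.repOK md.one md.mul B = true)
    (h6 : ∀ i < W.n, W.cosOK D md.one md.mul B i 1 = true)
    (h7 : ∀ i < W.n, W.rowOK D md.one md.mul B i 1 = true)
    (hab : md.mul (Data.cd md.one B W.a) (Data.cd md.one B W.b) =
      md.mul (Data.cd md.one B W.b) (Data.cd md.one B W.a))
    (hcard : W.n * (D.reps.length * D.nct) = Nat.card G)
    (hval : ((W.valueN D 0 W.n : ℕ) : ZMod 3) = 1) (hperf : commutator G = ⊤) :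
    ∃ (Γ : Type) (_ : Group Γ) (_ : Finite Γ) (σ : Γ →* G),
      Cfsg.IsStemExtension σ ∧ Nonempty (σ.ker ≃* Multiplicative (ZMod 3)) := by
  classical
  have cdx : ∀ k, Data.cd md.one B k = md.enc (x k) := fun k => (hx k).symm
  -- inverses
  simp only [Data.invOK, Bool.and_eq_true, Nat.beq_eq, List.all_eq_true, List.mem_range] at h0
  have hinvc := h0
  have cix : ∀ k, D.ci md.one B k = md.enc (x k)⁻¹ := fun k => by
    rcases Nat.lt_or_ge k B.1 with hk | hk
    · have h := hinvc k hk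
      unfold Data.ci at h ⊢
      rw [cdx, cdx, ← md.enc_mul, ← md.enc_one] at h
      rw [cdx, eq_inv_of_mul_eq_one_right (md.inj h)]
    · have hxk : x k = 1 := md.inj (by rw [hx, Data.cd, tbl_default _ hk, md.enc_one])
      rw [hxk, inv_one, md.enc_one, Data.ci, tbl_default (T := (B.1, D.inv)) _ hk, Data.cd, tbl_default _ le_rfl]
  -- the normal subgroup
  simp only [Data.nOK, Bool.and_eq_true, Nat.blt_eq, Nat.beq_eq, decide_eq_true_eq, List.all_eq_true,
    List.mem_range, Bool.or_eq_true] at h1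
  obtain ⟨⟨⟨⟨⟨hnpos, hn0⟩, hv0⟩, hnd⟩, hclose⟩, htree⟩ := h1
  let inN : G → ℕ → Prop := fun e k => k < D.nn ∧ md.enc e = D.nc md.one k
  have uniq : ∀ {e : G} {k m : ℕ}, inN e k → inN e m → k = m := fun {e k m} hk hm => by
    have h := (hk.2.symm.trans hm.2)
    exact List.inj_on_of_nodup_map (nodup_of_freshOK _ _ hnd).1 (List.mem_range.mpr hk.1) (List.mem_range.mpr hm.1)
      (congrArg (· % digMod) h)
  let gx : ℕ → G := fun g => x (D.gens.getD g 0)
  have hstep : ∀ {e : G} {k : ℕ}, inN e k → ∀ g < D.gens.length, inN (e * gx g) ((D.nmul.getD k []).getD g 0) ∧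
      D.nv ((D.nmul.getD k []).getD g 0) = D.nv k + D.nv ((D.nmul.getD 0 []).getD g 0) := fun {e k} hk g hg => by
    obtain ⟨⟨hb, hm⟩, hv⟩ := hclose k hk.1 g hg
    exact ⟨⟨hb, by rw [md.enc_mul, hk.2, ← hm, cdx]⟩, hv⟩
  have hone : inN 1 0 := ⟨hnpos, by rw [md.enc_one, hn0]⟩
  have reach : ∀ k < D.nn, ∃ e, inN e k := by
    intro k
    induction k using Nat.strong_induction_on with
    | _ k ih =>
      intro hk
      rcases Nat.eq_zero_or_pos k with rfl | hpos
      · exact ⟨1, hone⟩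
      · obtain ⟨⟨hp, hg⟩, hm⟩ := (htree k hk).resolve_left (by omega)
        obtain ⟨e', he'⟩ := ih _ hp (by omega)
        exact ⟨_, hm ▸ (hstep he' _ hg).1⟩
  -- induction along the tree
  have hind : ∀ P : G → Prop, P 1 → (∀ e g k, inN e k → g < D.gens.length → P e → P (e * gx g)) →
      ∀ e k, inN e k → P e := by
    intro P hP1 hPs e k
    induction k using Nat.strong_induction_on generalizing e with
    | _ k ih =>
      intro hk
      rcases Nat.eq_zero_or_pos k with rfl | hpos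
      · rwa [md.inj (hk.2.trans hone.2.symm)]
      · obtain ⟨⟨hp, hg⟩, hm⟩ := (htree k hk.1).resolve_left (by omega)
        obtain ⟨e', he'⟩ := reach (D.ntree.getD k (0, 0)).1 (by omega)
        have h := (hstep he' _ hg).1
        rw [hm] at h
        rw [md.inj (hk.2.trans h.2.symm)]
        exact hPs _ _ _ he' hg (ih _ hp _ he')
  let v : G → V4 := fun e => if h : ∃ k, inN e k then D.nv h.choose else (0, 0, 0, 0)
  have hv : ∀ {e : G} {k : ℕ}, inN e k → v e = D.nv k := fun {e k} hk => by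
    have hex : ∃ k, inN e k := ⟨k, hk⟩
    simp only [v, dif_pos hex]
    rw [uniq hex.choose_spec hk]
  have v1 : v 1 = 0 := (hv hone).trans hv0
  have gmem : ∀ g < D.gens.length, inN (gx g) ((D.nmul.getD 0 []).getD g 0) := fun g hg => by
    simpa using (hstep hone g hg).1
  have hmul : ∀ {b : G} {kb : ℕ}, inN b kb → ∀ {a : G}, (∃ k, inN a k) →
      (∃ k, inN (a * b) k) ∧ v (a * b) = v a + v b := by
    intro b kb hb
    refine hind (fun b => ∀ {a : G}, (∃ k, inN a k) → (∃ k, inN (a * b) k) ∧ v (a * b) = v a + v b)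
      (fun {a} ha => by simpa [v1] using ha) (fun e g k hk hg ih {a} ha => ?_) b kb hb
    obtain ⟨⟨m, hm⟩, hva⟩ := ih ha
    obtain ⟨h1', h1v⟩ := hstep hm g hg
    obtain ⟨h2', h2v⟩ := hstep hk g hg
    refine ⟨⟨_, by rw [← mul_assoc]; exact h1'⟩, ?_⟩
    rw [← mul_assoc, hv h1', hv h2', h1v, h2v, ← hv hm, ← hv hk, hva, add_assoc]
  let N : Subgroup G :=
    { carrier := {e | ∃ k, inN e k}
      one_mem' := ⟨0, hone⟩
      mul_mem' := fun {a b} ha hb => (hmul hb.choose_spec ha).1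
      inv_mem' := fun {a} ha => by
        have hp : ∀ j : ℕ, ∃ k, inN (a ^ j) k := fun j => by
          induction j with
          | zero => exact ⟨0, by rw [pow_zero]; exact hone⟩
          | succ j ih => rw [pow_succ]; exact (hmul ha.choose_spec ih).1
        rw [inv_eq_of_mul_eq_one_right (show a * a ^ (orderOf a - 1) = 1 by
          rw [← pow_succ', Nat.sub_add_cancel (orderOf_pos a), pow_orderOf_eq_one])]
        exact hp _ }
  have vadd : ∀ a b : N, v ((a * b : N) : G) = v (a : G) + v (b : G) := fun a b =>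
    (hmul b.2.choose_spec a.2).2
  let β : N → N → ZMod 3 := fun a b => formV D.form (v a) (v b)
  let t := x D.t
  let z := x D.z
  let Q : G → Prop := fun g => (g * z * g⁻¹ = z ∨ g * z * g⁻¹ = z⁻¹) ∧
    (∀ a ∈ N, g * a * g⁻¹ ∈ N) ∧ g * t * g⁻¹ * t⁻¹ ∈ N ∧
    ∀ a ∈ N, ∀ b ∈ N, formV D.form (v (g * a * g⁻¹)) (v (g * b * g⁻¹)) = formV D.form (v a) (v b)
  have hQmul : ∀ g h, Q g → Q h → Q (g * h) := by
    rintro g h ⟨g1, g2, g3, g4⟩ ⟨k1, k2, k3, k4⟩
    have e : ∀ a, g * h * a * (g * h)⁻¹ = g * (h * a * h⁻¹) * g⁻¹ := fun a => by simp [mul_assoc]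
    refine ⟨?_, fun a ha => by rw [e]; exact g2 _ (k2 a ha), ?_, fun a ha b hb => ?_⟩
    · rw [e]
      rcases k1 with k | k <;> rw [k] <;> rcases g1 with g' | g'
      · exact Or.inl g'
      · exact Or.inr g'
      · exact Or.inr (by rw [← conj_inv, g'])
      · exact Or.inl (by rw [← conj_inv, g', inv_inv])
    · have h' : g * h * t * (g * h)⁻¹ * t⁻¹ = g * (h * t * h⁻¹ * t⁻¹) * g⁻¹ * (g * t * g⁻¹ * t⁻¹) := by
        simp [mul_assoc]
      rw [h']
      exact N.mul_mem (g2 _ k3) g3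
    · rw [e, e, g4 _ (k2 a ha) _ (k2 b hb), k4 a ha b hb]
  have hQ1 : Q 1 := ⟨Or.inl (by simp), fun a ha => by simpa using ha, by simp [N.one_mem],
    fun a _ b _ => by simp⟩
  let L : Subgroup G :=
    { carrier := {g | Q g}
      one_mem' := hQ1
      mul_mem' := fun {a b} => hQmul a b
      inv_mem' := fun {a} ha => by
        have hp : ∀ j : ℕ, Q (a ^ j) := fun j => by
          induction j with
          | zero => rw [pow_zero]; exact hQ1
          | succ j ih => rw [pow_succ]; exact hQmul _ _ ih ha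
        rw [inv_eq_of_mul_eq_one_right (show a * a ^ (orderOf a - 1) = 1 by
          rw [← pow_succ', Nat.sub_add_cancel (orderOf_pos a), pow_orderOf_eq_one])]
        exact hp _ }
  let Lz : Subgroup G := Subgroup.normalizer ({z, z⁻¹} : Set G)
  -- the listed elements
  simp only [Data.lOK, List.all_eq_true, forceN_eq, Bool.and_eq_true, Bool.or_eq_true, Nat.beq_eq,
    Nat.blt_eq, decide_eq_true_eq, List.mem_range] at h2
  have hlg : ∀ e ∈ D.lgens, x e.1 ∈ L := by
    intro e he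
    obtain ⟨⟨⟨⟨hz, hg⟩, hform⟩, hfb⟩, hf⟩ := h2 e he
    simp only [cdx, cix, ← md.enc_mul] at hz hg hf
    set g := x e.1
    have hgN : ∀ i < D.gens.length, inN (g * gx i * g⁻¹) (e.2.1.getD i 0) := fun i hi => hg i hi
    have hc : ∀ b kb, inN b kb → g * b * g⁻¹ ∈ N :=
      hind (fun b => g * b * g⁻¹ ∈ N) (by simp [N.one_mem]) fun b i k _ hi ih => by
        rw [show g * (b * gx i) * g⁻¹ = g * b * g⁻¹ * (g * gx i * g⁻¹) by simp [mul_assoc]]
        exact N.mul_mem ih ⟨_, hgN i hi⟩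
    have hcj : ∀ a ∈ N, g * a * g⁻¹ ∈ N := fun a ha => hc a _ ha.choose_spec
    have hadd : ∀ a ∈ N, ∀ b ∈ N, v (g * (a * b) * g⁻¹) = v (g * a * g⁻¹) + v (g * b * g⁻¹) := fun a ha b hb => by
      rw [show g * (a * b) * g⁻¹ = g * a * g⁻¹ * (g * b * g⁻¹) by simp [mul_assoc]]
      exact vadd ⟨_, hcj a ha⟩ ⟨_, hcj b hb⟩
    have hfz : ∀ u : V4, formV D.form 0 u = 0 ∧ formV D.form u 0 = 0 := fun u => by simp [formV]
    have step1 : ∀ i < D.gens.length, ∀ b kb, inN b kb →
        formV D.form (v (g * gx i * g⁻¹)) (v (g * b * g⁻¹)) = formV D.form (v (gx i)) (v b) := fun i hi =>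
      hind (fun b => formV D.form (v (g * gx i * g⁻¹)) (v (g * b * g⁻¹)) = formV D.form (v (gx i)) (v b))
        (by simp [v1, hfz]) fun b j k hk hj ih => by
          rw [hadd b ⟨k, hk⟩ _ ⟨_, gmem j hj⟩, formV_add_right, ih, (hmul (gmem j hj) ⟨k, hk⟩).2,
            formV_add_right, hv (hgN i hi), hv (hgN j hj), hv (gmem i hi), hv (gmem j hj), hform i hi j hj]
    have step2 : ∀ a ka, inN a ka → ∀ b ∈ N,
        formV D.form (v (g * a * g⁻¹)) (v (g * b * g⁻¹)) = formV D.form (v a) (v b) :=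
      hind (fun a => ∀ b ∈ N, formV D.form (v (g * a * g⁻¹)) (v (g * b * g⁻¹)) = formV D.form (v a) (v b))
        (fun b _ => by simp [v1, hfz]) fun a i k hk hi ih b hb => by
          rw [hadd a ⟨k, hk⟩ _ ⟨_, gmem i hi⟩, formV_add_left, ih b hb, step1 i hi b _ hb.choose_spec,
            (hmul (gmem i hi) ⟨k, hk⟩).2, formV_add_left]
    exact ⟨hz.imp (fun h => md.inj h) (fun h => md.inj h), hcj, ⟨_, hfb, hf⟩,
      fun a ha b hb => step2 a _ ha.choose_spec b hb⟩
  simp only [Data.genL, List.all_eq_true, List.any_eq_true, Nat.beq_eq] at h2'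
  have hgL : ∀ g ∈ D.gens ++ D.cgens, x g ∈ L := fun g hg => by
    obtain ⟨e, he, rfl⟩ := h2' g hg
    exact hlg e he
  have hNL : N ≤ L := fun a ha => hind (fun a => a ∈ L) L.one_mem (fun b i k _ hi ih =>
    L.mul_mem ih (hgL _ (List.mem_append_left _ (by
      rw [List.getD_eq_getElem _ _ hi]; exact List.getElem_mem hi)))) a _ ha.choose_spec
  -- the elements commuting with the distinguished one
  simp only [Data.cOK, Bool.and_eq_true, Nat.blt_eq, Nat.beq_eq, List.all_eq_true, List.mem_range,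
    Bool.or_eq_true] at h3
  obtain ⟨⟨⟨⟨hcpos, hc0⟩, hcnd⟩, hccomm⟩, hctree⟩ := h3
  have creach : ∀ k < D.nct, ∃ e, md.enc e = rd md.one D.ctab k ∧ e ∈ L ∧ e * t = t * e := by
    intro k
    induction k using Nat.strong_induction_on with
    | _ k ih =>
      intro hk
      rcases Nat.eq_zero_or_pos k with rfl | hpos
      · exact ⟨1, by rw [md.enc_one, hc0], L.one_mem, by simp⟩
      · obtain ⟨⟨hp, hg⟩, hm⟩ := (hctree k hk).resolve_left (by omega)
        obtain ⟨e', he', hL', ht'⟩ := ih _ hp (by omega)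
        set g := D.cgens.getD (rd (0, 0) D.ctree k).2 0 with hgdef
        have hgm : g ∈ D.cgens := by rw [hgdef, List.getD_eq_getElem _ _ hg]; exact List.getElem_mem hg
        have hgt := hccomm g hgm
        simp only [cdx, ← md.enc_mul] at hgt
        refine ⟨e' * x g, by rw [md.enc_mul, he', ← cdx, hm], L.mul_mem hL' (hgL g (List.mem_append_right _ hgm)), ?_⟩
        rw [mul_assoc, md.inj hgt, ← mul_assoc, ht', mul_assoc]
  -- counting the subgroup
  simp only [Data.repOK, Bool.and_eq_true, List.all_eq_true, Nat.blt_eq, Nat.beq_eq, decide_eq_true_eq] at h4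
  obtain ⟨hreps, hrnd⟩ := h4
  have rsp : ∀ i : Fin D.reps.length, ∃ e : G, e ∈ N ∧ v (e * t * e⁻¹ * t⁻¹) = D.nv (D.reps[i.1]).2.2 := by
    intro i
    obtain ⟨⟨⟨⟨hk, hk2⟩, hf⟩, hinv⟩, hval'⟩ := hreps _ (List.getElem_mem i.2)
    obtain ⟨e, he⟩ := reach _ hk
    obtain ⟨e', he'⟩ : ∃ e', md.enc e' = D.nc md.one (D.reps[i.1]).2.1 :=
      ⟨_, (reach _ hk2).choose_spec.2⟩
    rw [← he.2, ← he', ← md.enc_mul, ← md.enc_one] at hinv
    have hei : e' = e⁻¹ := eq_inv_of_mul_eq_one_right (md.inj hinv)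
    rw [← he.2, ← he', hei, cdx, cix, ← md.enc_mul, ← md.enc_mul, ← md.enc_mul] at hval'
    exact ⟨e, ⟨_, he⟩, hv ⟨hf, hval'⟩⟩
  choose r hrN hrv using rsp
  choose c hce hcL hct using creach
  have hLcard : D.reps.length * D.nct ≤ Nat.card L := by
    let F : Fin D.reps.length × Fin D.nct → L := fun p =>
      ⟨r p.1 * c p.2 p.2.2, L.mul_mem (hNL (hrN _)) (hcL _ _)⟩
    have hF : Function.Injective F := by
      rintro ⟨i, k⟩ ⟨i', k'⟩ h
      have h' : r i * c k k.2 = r i' * c k' k'.2 := congrArg Subtype.val h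
      have key : ∀ (e d : G), d * t = t * d → e * d * t * (e * d)⁻¹ * t⁻¹ = e * t * e⁻¹ * t⁻¹ := fun e d hd => by
        rw [mul_inv_rev, show e * d * t * (d⁻¹ * e⁻¹) = e * (d * t * d⁻¹) * e⁻¹ by simp [mul_assoc], hd,
          mul_inv_cancel_right]
      have hv' : v (r i * t * (r i)⁻¹ * t⁻¹) = v (r i' * t * (r i')⁻¹ * t⁻¹) := by
        rw [← key _ _ (hct k k.2), h', key _ _ (hct k' k'.2)]
      rw [hrv, hrv] at hv'
      have hi : i = i' := by
        refine Fin.ext ((List.Nodup.getElem_inj_iff hrnd (hi := by simp [i.2]) (hj := by simp [i'.2])).mp ?_)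
        simpa using hv'
      subst hi
      have hc' := congrArg md.enc (mul_left_cancel h')
      rw [hce, hce] at hc'
      rw [Fin.ext (List.inj_on_of_nodup_map (nodup_of_freshOK _ _ hcnd).1 (List.mem_range.mpr k.2)
        (List.mem_range.mpr k'.2) (congrArg (· % digMod) hc'))]
    have := Nat.card_le_card_of_injective F hF
    simpa [Nat.card_prod] using this
  -- the cosets
  let T : Fin W.n → G := fun i => x (rd (0, 0) W.tp i).1 * x (rd (0, 0) W.tp i).2
  have hTc : ∀ i : Fin W.n, W.tC md.one md.mul B i = md.enc (T i) := fun i => by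
    simp only [Wit.tC, cdx, T, md.enc_mul]
  have hTi : ∀ i : Fin W.n, W.tI D md.one md.mul B i = md.enc (T i)⁻¹ := fun i => by
    simp only [Wit.tI, cix, T, mul_inv_rev, md.enc_mul]
  have hdig : ∀ i : Fin W.n, rd 0 W.rank i < W.n ∧ rd 0 W.ord (rd 0 W.rank i) = i ∧
      rd 0 W.srt (rd 0 W.rank i) = (md.enc ((T i)⁻¹ * z * T i) + md.enc ((T i)⁻¹ * z⁻¹ * T i)) % digMod := fun i => by
    have h := h6 i i.2
    simp only [Wit.cosOK, List.range'_one, List.all_cons, List.all_nil, Bool.and_true, forceN_eq, Nat.beq_eq,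
      Bool.and_eq_true, Nat.blt_eq] at h
    refine ⟨h.1.1.1, h.1.1.2, ?_⟩
    rw [h.1.2, hTc, hTi, cdx, cix, ← md.enc_mul, ← md.enc_mul, ← md.enc_mul, ← md.enc_mul]
  have hsrt : ∀ k, k + 1 < W.n → rd 0 W.srt k < rd 0 W.srt (k + 1) := fun k hk => by
    have h := h6 k (by omega)
    simp only [Wit.cosOK, List.range'_one, List.all_cons, List.all_nil, Bool.and_true, forceN_eq, Nat.beq_eq,
      Bool.and_eq_true, Bool.or_eq_true, Nat.blt_eq] at h
    exact h.2.resolve_left (by omega)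
  have hmono : ∀ d a, a + d + 1 < W.n → rd 0 W.srt a < rd 0 W.srt (a + d + 1) := by
    intro d
    induction d with
    | zero => exact fun a ha => hsrt a ha
    | succ d ih =>
      intro a ha
      exact lt_trans (ih a (by omega)) (hsrt (a + d + 1) ha)
  have hsinj : ∀ a b, a < W.n → b < W.n → rd 0 W.srt a = rd 0 W.srt b → a = b := by
    intro a b ha hb h
    rcases lt_trichotomy a b with hab' | hab' | hab'
    · obtain ⟨d, rfl⟩ : ∃ d, b = a + d + 1 := ⟨b - a - 1, by omega⟩
      exact absurd h (hmono d a hb).ne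
    · exact hab'
    · obtain ⟨d, rfl⟩ : ∃ d, a = b + d + 1 := ⟨a - b - 1, by omega⟩
      exact absurd h (hmono d b ha).ne'
  have hdistz : ∀ i j, T i * (T j)⁻¹ ∈ Lz → i = j := by
    intro i j h
    have hz := (Subgroup.mem_set_normalizer_iff.mp h z).mp (Or.inl rfl)
    have hzi := (Subgroup.mem_set_normalizer_iff.mp h z⁻¹).mp (Or.inr rfl)
    obtain ⟨hki, hoi, hsi⟩ := hdig i
    obtain ⟨hkj, hoj, hsj⟩ := hdig j
    refine Fin.ext ?_
    rw [← hoi, ← hoj]
    refine congrArg _ (hsinj _ _ hki hkj ?_)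
    rw [hsi, hsj]
    have e : ∀ u : G, (T i)⁻¹ * (T i * (T j)⁻¹ * u * (T i * (T j)⁻¹)⁻¹) * T i = (T j)⁻¹ * u * T j := fun u => by
      simp [mul_assoc]
    rw [← e z, ← e z⁻¹]
    simp only [Set.mem_insert_iff, Set.mem_singleton_iff] at hz hzi
    rcases hz with hz | hz
    · rw [hz, ← conj_inv, hz]
    · rw [hz, ← conj_inv, hz, inv_inv, Nat.add_comm]
  have hLLz : L ≤ Lz := by
    intro g hg
    rw [Subgroup.mem_set_normalizer_iff]
    intro u
    simp only [Set.mem_insert_iff, Set.mem_singleton_iff]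
    constructor
    · rintro (rfl | rfl)
      · exact hg.1
      · rcases hg.1 with h | h
        · exact Or.inr (by rw [← conj_inv, h])
        · exact Or.inl (by rw [← conj_inv, h, inv_inv])
    · intro hu
      have hu' : ∀ w, g * u * g⁻¹ = g * w * g⁻¹ → u = w := fun w h => mul_left_cancel (mul_right_cancel h)
      rcases hg.1 with h | h <;> rcases hu with hu | hu
      · exact Or.inl (hu' z (hu.trans h.symm))
      · exact Or.inr (hu' z⁻¹ (by rw [hu, ← conj_inv, h]))
      · exact Or.inr (hu' z⁻¹ (by rw [hu, ← conj_inv, h, inv_inv]))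
      · exact Or.inl (hu' z (hu.trans h.symm))
  have hLz : W.n * Nat.card Lz ≤ Nat.card G := by
    let F : Lz × Fin W.n → G := fun p => (p.1 : G) * T p.2
    have hF : Function.Injective F := by
      rintro ⟨a, i⟩ ⟨b, j⟩ h
      have hm : T i * (T j)⁻¹ ∈ Lz := by
        have e : T i * (T j)⁻¹ = (a : G)⁻¹ * (b : G) := by
          rw [mul_inv_eq_iff_eq_mul, mul_assoc, ← (show (a : G) * T i = (b : G) * T j from h), inv_mul_cancel_left]
        rw [e]; exact Lz.mul_mem (Lz.inv_mem a.2) b.2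
      obtain rfl := hdistz i j hm
      exact Prod.ext (Subtype.ext (mul_right_cancel h)) rfl
    have := Nat.card_le_card_of_injective F hF
    rwa [Nat.card_prod, Nat.card_fin, Nat.mul_comm] at this
  have hn : 0 < W.n := Nat.pos_of_ne_zero fun h => by
    rw [h, Nat.zero_mul] at hcard
    exact absurd hcard.symm Nat.card_pos.ne'
  have hLeq : L = Lz := Subgroup.eq_of_le_of_card_ge hLLz (by
    have h' : W.n * Nat.card Lz ≤ W.n * Nat.card L :=
      hLz.trans (hcard.symm.le.trans (Nat.mul_le_mul_left _ hLcard))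
    exact Nat.le_of_mul_le_mul_left h' hn)
  let C : Cosets L W.n :=
    { t := T
      dist := fun i j h => hdistz i j (hLeq ▸ h)
      card := le_antisymm (by rw [hLeq]; exact hLz) (hcard.symm.le.trans (Nat.mul_le_mul_left _ hLcard)) }
  let φ : Cocycle L (ZMod 3) := formCocycle L N t β (fun g hg m => hg.2.1 m m.2) (fun g hg => hg.2.2.1)
    (fun a b c => by simp only [β]; rw [vadd, formV_add_left])
    (fun a b c => by simp only [β]; rw [vadd, formV_add_right])
    (fun g hg a b => hg.2.2.2 a a.2 b b.2)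
  -- the rows
  have hrow : ∀ i : Fin W.n, ∃ ja jb : Fin W.n,
      (ja : ℕ) = fld (rd 0 W.rows i) 0 ∧ (jb : ℕ) = fld (rd 0 W.rows i) 1 ∧
      C.act i (x W.a) = ja ∧ C.act i (x W.b) = jb ∧
      inN (T i * x W.a * (T ja)⁻¹ * t * (T i * x W.a * (T ja)⁻¹)⁻¹ * t⁻¹) (fld (rd 0 W.rows i) 2) ∧
      inN (T i * x W.b * (T jb)⁻¹ * t * (T i * x W.b * (T jb)⁻¹)⁻¹ * t⁻¹) (fld (rd 0 W.rows i) 3) ∧
      fld (rd 0 W.rows i) 4 < D.nn ∧ fld (rd 0 W.rows i) 5 < D.nn ∧
      (∀ m : G, md.enc m = D.nc md.one (fld (rd 0 W.rows ja) 3) →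
        inN (T i * x W.a * (T ja)⁻¹ * m * (T i * x W.a * (T ja)⁻¹)⁻¹) (fld (rd 0 W.rows i) 4)) ∧
      (∀ m : G, md.enc m = D.nc md.one (fld (rd 0 W.rows jb) 2) →
        inN (T i * x W.b * (T jb)⁻¹ * m * (T i * x W.b * (T jb)⁻¹)⁻¹) (fld (rd 0 W.rows i) 5)) := by
    intro i
    have h := h7 i i.2
    simp only [Wit.rowOK, List.range'_one, List.all_cons, List.all_nil, Bool.and_true, forceN_eq, Bool.and_eq_true,
      Bool.or_eq_true, Nat.beq_eq, Nat.blt_eq] at h
    obtain ⟨⟨⟨⟨⟨⟨⟨hja, hjb⟩, h2b⟩, h3b⟩, h4b⟩, h5b⟩, ⟨⟨za, fa⟩, ca⟩⟩, ⟨⟨zb, fb⟩, cb⟩⟩ := h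
    let ja : Fin W.n := ⟨_, hja⟩
    let jb : Fin W.n := ⟨_, hjb⟩
    change (_ ∨ _) at za zb
    rw [hTc i, hTi i, show W.tI D md.one md.mul B (fld (rd 0 W.rows i) 0) = md.enc (T ja)⁻¹ from hTi ja,
      show W.tC md.one md.mul B (fld (rd 0 W.rows i) 0) = md.enc (T ja) from hTc ja] at za fa ca
    rw [hTc i, hTi i, show W.tI D md.one md.mul B (fld (rd 0 W.rows i) 1) = md.enc (T jb)⁻¹ from hTi jb,
      show W.tC md.one md.mul B (fld (rd 0 W.rows i) 1) = md.enc (T jb) from hTc jb] at zb fb cb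
    simp only [cdx, cix, ← md.enc_mul] at za fa zb fb
    have ea : T ja * (x W.a)⁻¹ * (T i)⁻¹ = (T i * x W.a * (T ja)⁻¹)⁻¹ := by simp [mul_assoc]
    have eb : T jb * (x W.b)⁻¹ * (T i)⁻¹ = (T i * x W.b * (T jb)⁻¹)⁻¹ := by simp [mul_assoc]
    rw [ea] at za fa
    rw [eb] at zb fb
    have memL : ∀ g : G, (g * z * g⁻¹ = z ∨ g * z * g⁻¹ = z⁻¹) → g ∈ L := fun g hg => by
      rw [hLeq, Subgroup.mem_set_normalizer_iff]
      intro u
      simp only [Set.mem_insert_iff, Set.mem_singleton_iff]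
      have hgi : g * z⁻¹ * g⁻¹ = (g * z * g⁻¹)⁻¹ := conj_inv.symm
      constructor
      · rintro (rfl | rfl)
        · exact hg
        · rcases hg with h | h <;> rw [hgi, h] <;> simp
      · intro hu
        have hu' : ∀ w, g * u * g⁻¹ = g * w * g⁻¹ → u = w := fun w h => mul_left_cancel (mul_right_cancel h)
        rcases hg with h | h <;> rcases hu with hu | hu
        · exact Or.inl (hu' z (hu.trans h.symm))
        · exact Or.inr (hu' z⁻¹ (by rw [hu, hgi, h]))
        · exact Or.inr (hu' z⁻¹ (by rw [hu, hgi, h, inv_inv]))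
        · exact Or.inl (hu' z (hu.trans h.symm))
    refine ⟨ja, jb, rfl, rfl, C.pos_eq (memL _ (za.imp (fun h => md.inj h) fun h => md.inj h)),
      C.pos_eq (memL _ (zb.imp (fun h => md.inj h) fun h => md.inj h)), ⟨h2b, fa⟩, ⟨h3b, fb⟩, h4b, h5b,
      fun m hm => ⟨h4b, ?_⟩, fun m hm => ⟨h5b, ?_⟩⟩
    · rw [← hm] at ca
      simp only [cdx, cix, ← md.enc_mul] at ca
      rw [ea] at ca
      exact ca
    · rw [← hm] at cb
      simp only [cdx, cix, ← md.enc_mul] at cb
      rw [eb] at cb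
      exact cb
  choose ja jb hja hjb acta actb fa fb h4' h5' ca cb using hrow
  have key : ∀ (u w : G) (ju jw : Fin W.n → Fin W.n) (k k' k'' : ℕ → ℕ),
      (∀ i, C.act i u = ju i) → (∀ i, C.act i w = jw i) →
      (∀ i : Fin W.n, inN (T i * u * (T (ju i))⁻¹ * t * (T i * u * (T (ju i))⁻¹)⁻¹ * t⁻¹) (k i)) →
      (∀ i : Fin W.n, inN (T i * w * (T (jw i))⁻¹ * t * (T i * w * (T (jw i))⁻¹)⁻¹ * t⁻¹) (k' i)) →
      (∀ i : Fin W.n, ∀ m : G, md.enc m = D.nc md.one (k' (ju i)) →
        inN (T i * u * (T (ju i))⁻¹ * m * (T i * u * (T (ju i))⁻¹)⁻¹) (k'' i)) →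
      (C.sumCocycle φ).F u w = ∑ i : Fin W.n, formV D.form (D.nv (k i)) (D.nv (k'' i)) := by
    intro u w ju jw k k' k'' hju hjw hu hw hc
    show ∑ i : Fin W.n, φ.F (C.lab i u) (C.lab (C.act i u) w) = _
    refine Finset.sum_congr rfl fun i _ => ?_
    have hl : (C.lab i u : G) = T i * u * (T (ju i))⁻¹ := by
      show T i * u * (T (C.act i u))⁻¹ = _
      rw [hju]
    have hl' : (C.lab (C.act i u) w : G) = T (ju i) * w * (T (jw (ju i)))⁻¹ := by
      show T (C.act i u) * w * (T (C.act (C.act i u) w))⁻¹ = _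
      rw [hju, hjw]
    show formV D.form (v _) (v _) = _
    simp only [hl, hl']
    rw [hv (hu i), hv (hc i _ (hw (ju i)).2)]
  have hF : (C.sumCocycle φ).F (x W.a) (x W.b) - (C.sumCocycle φ).F (x W.b) (x W.a) = W.value D := by
    rw [key (x W.a) (x W.b) ja jb (fun i => fld (rd 0 W.rows i) 2) (fun i => fld (rd 0 W.rows i) 3)
        (fun i => fld (rd 0 W.rows i) 4) acta actb fa fb ca,
      key (x W.b) (x W.a) jb ja (fun i => fld (rd 0 W.rows i) 3) (fun i => fld (rd 0 W.rows i) 2)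
        (fun i => fld (rd 0 W.rows i) 5) actb acta fb fa cb, ← Finset.sum_sub_distrib,
      Fin.sum_univ_eq_sum_range fun i => formV D.form (D.nv (fld (rd 0 W.rows i) 2)) (D.nv (fld (rd 0 W.rows i) 4)) -
        formV D.form (D.nv (fld (rd 0 W.rows i) 3)) (D.nv (fld (rd 0 W.rows i) 5)), Wit.value,
      ← List.sum_toFinset _ List.nodup_range, List.toFinset_range]
  refine exists_stem_of_cocycle (c := C.sumCocycle φ) hperf [(x W.a, x W.b)] ?_ ?_
  · simp only [List.mem_singleton, forall_eq]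
    rw [cdx, cdx, ← md.enc_mul, ← md.enc_mul] at hab
    exact md.inj hab
  · rw [eq_top_iff]
    intro k _
    have h1' : (1 : ZMod 3) ∈ AddSubgroup.closure {v | ∃ p ∈ [(x W.a, x W.b)],
        v = (C.sumCocycle φ).F p.1 p.2 - (C.sumCocycle φ).F p.2 p.1} :=
      AddSubgroup.subset_closure ⟨_, List.mem_singleton_self _, by rw [hF, Wit.value_eq, hval]⟩
    have := AddSubgroup.nsmul_mem _ h1' k.val
    rwa [nsmul_eq_mul, mul_one, ZMod.natCast_zmod_val] at this

end CfsgLib.McLMult
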