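/-
An unrolled product of packed matrices, equal to the product of codes.
-/
import Cfsg.Agent.Co0Model.Mul

set_option autoImplicit false
set_option maxRecDepth 10000

namespace CfsgLib.McLMult

open CfsgLib.Co0Model
open CfsgLib.ExtCert (forceN forceN_eq)

/-- The sum of the products of the columns and the rows, written out. -/
def rawF (A B : ℕ) : ℕ :=
  (Nat.add (Nat.add (Nat.add (Nat.add (Nat.add (Nat.add (Nat.add (Nat.add (Nat.add (Nat.add (Nat.add (Nat.add (Nat.add (Nat.add (Nat.add (Nat.add (Nat.add (Nat.add (Nat.add (Nat.add (Nat.add (Nat.add (Nat.add (Nat.mul (Nat.land (Nat.shiftRight A 0) colMask) (Nat.land (Nat.shiftRight B 0) rowMask))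
    (Nat.mul (Nat.land (Nat.shiftRight A 16) colMask) (Nat.land (Nat.shiftRight B 384) rowMask)))
    (Nat.mul (Nat.land (Nat.shiftRight A 32) colMask) (Nat.land (Nat.shiftRight B 768) rowMask)))
    (Nat.mul (Nat.land (Nat.shiftRight A 48) colMask) (Nat.land (Nat.shiftRight B 1152) rowMask)))
    (Nat.mul (Nat.land (Nat.shiftRight A 64) colMask) (Nat.land (Nat.shiftRight B 1536) rowMask)))
    (Nat.mul (Nat.land (Nat.shiftRight A 80) colMask) (Nat.land (Nat.shiftRight B 1920) rowMask)))
    (Nat.mul (Nat.land (Nat.shiftRight A 96) colMask) (Nat.land (Nat.shiftRight B 2304) rowMask)))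
    (Nat.mul (Nat.land (Nat.shiftRight A 112) colMask) (Nat.land (Nat.shiftRight B 2688) rowMask)))
    (Nat.mul (Nat.land (Nat.shiftRight A 128) colMask) (Nat.land (Nat.shiftRight B 3072) rowMask)))
    (Nat.mul (Nat.land (Nat.shiftRight A 144) colMask) (Nat.land (Nat.shiftRight B 3456) rowMask)))
    (Nat.mul (Nat.land (Nat.shiftRight A 160) colMask) (Nat.land (Nat.shiftRight B 3840) rowMask)))
    (Nat.mul (Nat.land (Nat.shiftRight A 176) colMask) (Nat.land (Nat.shiftRight B 4224) rowMask)))
    (Nat.mul (Nat.land (Nat.shiftRight A 192) colMask) (Nat.land (Nat.shiftRight B 4608) rowMask)))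
    (Nat.mul (Nat.land (Nat.shiftRight A 208) colMask) (Nat.land (Nat.shiftRight B 4992) rowMask)))
    (Nat.mul (Nat.land (Nat.shiftRight A 224) colMask) (Nat.land (Nat.shiftRight B 5376) rowMask)))
    (Nat.mul (Nat.land (Nat.shiftRight A 240) colMask) (Nat.land (Nat.shiftRight B 5760) rowMask)))
    (Nat.mul (Nat.land (Nat.shiftRight A 256) colMask) (Nat.land (Nat.shiftRight B 6144) rowMask)))
    (Nat.mul (Nat.land (Nat.shiftRight A 272) colMask) (Nat.land (Nat.shiftRight B 6528) rowMask)))
    (Nat.mul (Nat.land (Nat.shiftRight A 288) colMask) (Nat.land (Nat.shiftRight B 6912) rowMask)))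
    (Nat.mul (Nat.land (Nat.shiftRight A 304) colMask) (Nat.land (Nat.shiftRight B 7296) rowMask)))
    (Nat.mul (Nat.land (Nat.shiftRight A 320) colMask) (Nat.land (Nat.shiftRight B 7680) rowMask)))
    (Nat.mul (Nat.land (Nat.shiftRight A 336) colMask) (Nat.land (Nat.shiftRight B 8064) rowMask)))
    (Nat.mul (Nat.land (Nat.shiftRight A 352) colMask) (Nat.land (Nat.shiftRight B 8448) rowMask)))
    (Nat.mul (Nat.land (Nat.shiftRight A 368) colMask) (Nat.land (Nat.shiftRight B 8832) rowMask)))

/-- One step of the reduction. -/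
def foldF (X : ℕ) : ℕ := Nat.add (Nat.land X maskFive) (Nat.land (Nat.shiftRight X 5) maskEleven)

/-- Reduction modulo 31, written out. -/
def redF (X : ℕ) : ℕ :=
  (fun X => Nat.land (Nat.add X (Nat.land (Nat.shiftRight (Nat.add X maskOne) 5) maskOne)) maskFive)
    (foldF (foldF (foldF X)))

/-- The product of codes. -/
def mmulF (A B : ℕ) : ℕ := redF (rawF A B)

theorem rawF_eq (A B : ℕ) : rawF A B = mulRaw A B 24 := by
  simp [rawF, mulRaw, forceN_eq]

theorem redF_eq (X : ℕ) : redF X = red X := by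
  simp [redF, foldF, red, foldStep, lastStep, forceN_eq]

theorem mmulF_eq : mmulF = mmul := by
  funext A B
  simp [mmulF, mmul, forceN_eq, rawF_eq, redF_eq]

end CfsgLib.McLMult
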