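/-
A triple cover of the McLaughlin group: data and tests.
-/
import Cfsg.Agent.McLMult.CoverData
import Cfsg.Agent.Co0Model.Slp
import Cfsg.Agent.McLMult.Fast

set_option autoImplicit false
set_option maxRecDepth 100000

namespace CfsgLib.McLMult.Cover

open CfsgLib.CentralCert CfsgLib.Co0Model CfsgLib.McLMult

theorem cos_ok0 : wit.cosOK data oneCode mmulF codes 0 1100 = true := by decide +kernel
theorem cos_ok1 : wit.cosOK data oneCode mmulF codes 1100 1100 = true := by decide +kernel
theorem cos_ok2 : wit.cosOK data oneCode mmulF codes 2200 1100 = true := by decide +kernel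
theorem cos_ok3 : wit.cosOK data oneCode mmulF codes 3300 1100 = true := by decide +kernel
theorem cos_ok4 : wit.cosOK data oneCode mmulF codes 4400 1100 = true := by decide +kernel
theorem cos_ok5 : wit.cosOK data oneCode mmulF codes 5500 1100 = true := by decide +kernel
theorem cos_ok6 : wit.cosOK data oneCode mmulF codes 6600 1100 = true := by decide +kernel
end CfsgLib.McLMult.Cover
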