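/-
A triple cover of the McLaughlin group: data and tests.
-/
import Cfsg.Agent.McLMult.Base
import Cfsg.Agent.McLMult.CoverData

set_option autoImplicit false
set_option maxRecDepth 100000

namespace CfsgLib.McLMult.Cover

open CfsgLib.CentralCert CfsgLib.Co0Model CfsgLib.McLMult

theorem codes_ok : pick oneCode (slpN oneCode mmul prog base 3) sel = (List.range codes.1).map (rd oneCode codes.2) := by decide +kernel

end CfsgLib.McLMult.Cover
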