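/-
A triple cover of the McLaughlin group: data and tests.
-/
import Cfsg.Agent.McLMult.CoverData
import Cfsg.Agent.Co0Model.Slp
import Cfsg.Agent.McLMult.Fast

set_option autoImplicit false
set_option maxRecDepth 100000

namespace CfsgLib.McLMult.Cover

open CfsgLib.CentralCert CfsgLib.Co0Model CfsgLib.McLMult

theorem inv_ok : data.invOK oneCode mmulF codes = true := by decide +kernel
theorem n_ok : data.nOK oneCode mmulF codes = true := by decide +kernel
theorem l_ok : data.lOK oneCode mmulF codes = true := by decide +kernel
theorem gen_ok : data.genL = true := by decide +kernel
theorem c_ok : data.cOK oneCode mmulF codes = true := by decide +kernel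
theorem rep_ok : data.repOK oneCode mmulF codes = true := by decide +kernel
theorem ab_ok : mmulF (Data.cd oneCode codes wit.a) (Data.cd oneCode codes wit.b) =
    mmulF (Data.cd oneCode codes wit.b) (Data.cd oneCode codes wit.a) := by decide +kernel
theorem count_ok : wit.n * (data.reps.length * data.nct) = 898128000 := by decide +kernel

end CfsgLib.McLMult.Cover
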