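/-
A triple cover of the McLaughlin group: data and tests.
-/
import Cfsg.Agent.McLMult.CoverData
import Cfsg.Agent.Co0Model.Slp
import Cfsg.Agent.McLMult.Fast

set_option autoImplicit false
set_option maxRecDepth 100000

namespace CfsgLib.McLMult.Cover

open CfsgLib.CentralCert CfsgLib.Co0Model CfsgLib.McLMult

theorem row_ok10 : wit.rowOK data oneCode mmulF codes 4000 400 = true := by decide +kernel
theorem row_ok11 : wit.rowOK data oneCode mmulF codes 4400 400 = true := by decide +kernel
theorem row_ok12 : wit.rowOK data oneCode mmulF codes 4800 400 = true := by decide +kernel
theorem row_ok13 : wit.rowOK data oneCode mmulF codes 5200 400 = true := by decide +kernel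
theorem row_ok14 : wit.rowOK data oneCode mmulF codes 5600 400 = true := by decide +kernel
theorem row_ok15 : wit.rowOK data oneCode mmulF codes 6000 400 = true := by decide +kernel
theorem row_ok16 : wit.rowOK data oneCode mmulF codes 6400 400 = true := by decide +kernel
theorem row_ok17 : wit.rowOK data oneCode mmulF codes 6800 400 = true := by decide +kernel
theorem row_ok18 : wit.rowOK data oneCode mmulF codes 7200 400 = true := by decide +kernel
theorem row_ok19 : wit.rowOK data oneCode mmulF codes 7600 400 = true := by decide +kernel
end CfsgLib.McLMult.Cover
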