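/-
A triple cover of the McLaughlin group: data and tests.
-/
import Cfsg.Agent.McLMult.CoverData
import Cfsg.Agent.Co0Model.Slp
import Cfsg.Agent.McLMult.Fast

set_option autoImplicit false
set_option maxRecDepth 100000

namespace CfsgLib.McLMult.Cover

open CfsgLib.CentralCert CfsgLib.Co0Model CfsgLib.McLMult

theorem row_ok20 : wit.rowOK data oneCode mmulF codes 8000 400 = true := by decide +kernel
theorem row_ok21 : wit.rowOK data oneCode mmulF codes 8400 400 = true := by decide +kernel
theorem row_ok22 : wit.rowOK data oneCode mmulF codes 8800 400 = true := by decide +kernel
theorem row_ok23 : wit.rowOK data oneCode mmulF codes 9200 400 = true := by decide +kernel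
theorem row_ok24 : wit.rowOK data oneCode mmulF codes 9600 400 = true := by decide +kernel
theorem row_ok25 : wit.rowOK data oneCode mmulF codes 10000 400 = true := by decide +kernel
theorem row_ok26 : wit.rowOK data oneCode mmulF codes 10400 400 = true := by decide +kernel
theorem row_ok27 : wit.rowOK data oneCode mmulF codes 10800 400 = true := by decide +kernel
theorem row_ok28 : wit.rowOK data oneCode mmulF codes 11200 400 = true := by decide +kernel
theorem row_ok29 : wit.rowOK data oneCode mmulF codes 11600 400 = true := by decide +kernel
end CfsgLib.McLMult.Cover
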