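/-
A triple cover of the McLaughlin group: data and tests.
-/
import Cfsg.Agent.McLMult.CoverData
import Cfsg.Agent.Co0Model.Slp
import Cfsg.Agent.McLMult.Fast

set_option autoImplicit false
set_option maxRecDepth 100000

namespace CfsgLib.McLMult.Cover

open CfsgLib.CentralCert CfsgLib.Co0Model CfsgLib.McLMult

theorem row_ok30 : wit.rowOK data oneCode mmulF codes 12000 400 = true := by decide +kernel
theorem row_ok31 : wit.rowOK data oneCode mmulF codes 12400 400 = true := by decide +kernel
theorem row_ok32 : wit.rowOK data oneCode mmulF codes 12800 400 = true := by decide +kernel
theorem row_ok33 : wit.rowOK data oneCode mmulF codes 13200 400 = true := by decide +kernel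
theorem row_ok34 : wit.rowOK data oneCode mmulF codes 13600 400 = true := by decide +kernel
theorem row_ok35 : wit.rowOK data oneCode mmulF codes 14000 400 = true := by decide +kernel
theorem row_ok36 : wit.rowOK data oneCode mmulF codes 14400 400 = true := by decide +kernel
theorem row_ok37 : wit.rowOK data oneCode mmulF codes 14800 400 = true := by decide +kernel
theorem row_ok38 : wit.rowOK data oneCode mmulF codes 15200 200 = true := by decide +kernel
end CfsgLib.McLMult.Cover
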