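/-
A triple cover of the McLaughlin group: data and tests.
-/
import Cfsg.Agent.McLMult.CoverData
import Cfsg.Agent.Co0Model.Slp
import Cfsg.Agent.McLMult.Fast

set_option autoImplicit false
set_option maxRecDepth 100000

namespace CfsgLib.McLMult.Cover

open CfsgLib.CentralCert CfsgLib.Co0Model CfsgLib.McLMult

theorem val_ok0 : wit.valueN data 0 1925 = 5749 := by decide +kernel
theorem val_ok1 : wit.valueN data 1925 1925 = 5697 := by decide +kernel
theorem val_ok2 : wit.valueN data 3850 1925 = 5736 := by decide +kernel
theorem val_ok3 : wit.valueN data 5775 1925 = 5760 := by decide +kernel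
theorem val_ok4 : wit.valueN data 7700 1925 = 5663 := by decide +kernel
theorem val_ok5 : wit.valueN data 9625 1925 = 5771 := by decide +kernel
theorem val_ok6 : wit.valueN data 11550 1925 = 5705 := by decide +kernel
theorem val_ok7 : wit.valueN data 13475 1925 = 5715 := by decide +kernel
end CfsgLib.McLMult.Cover
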