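/-
The multiplier of the McLaughlin group has order three.
-/
import Cfsg.Agent.McLMult.OKTwo
import Cfsg.Agent.McLMult.OKThree
import Cfsg.Agent.McLMult.OKFive
import Cfsg.Agent.McLMult.Base
import Cfsg.Agent.McLMult.CoverCodes
import Cfsg.Agent.McLMult.CoverOK
import Cfsg.Agent.McLMult.CoverC0
import Cfsg.Agent.McLMult.CoverC1
import Cfsg.Agent.McLMult.CoverR0
import Cfsg.Agent.McLMult.CoverR1
import Cfsg.Agent.McLMult.CoverR2
import Cfsg.Agent.McLMult.CoverR3
import Cfsg.Agent.McLMult.CoverValue
import Cfsg.Agent.CentralCert.Assemble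
import Cfsg.Agent.CentralCert.StdLength

set_option autoImplicit false
set_option maxRecDepth 10000

namespace CfsgLib.McLMult

open Cfsg CfsgLib CfsgLib.Leech CfsgLib.CentralCert CfsgLib.Co0Model CfsgLib.OutConway
open Cfsg.Agent.McLSimple (mclStab card_mclStab simple_mclStab)

attribute [local irreducible] shortVecs halfTable quarterTable codeFinset

instance finite_mcl : Finite mclStab := Nat.finite_of_card_ne_zero (by rw [card_mclStab]; norm_num)

theorem nocomm : Nat.beq (mmul bCode eCode) (mmul eCode bCode) = false := by decide +kernel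

theorem perfect : _root_.commutator mclStab = ⊤ := by
  haveI := simple_mclStab
  rcases Subgroup.Normal.eq_bot_or_eq_top (inferInstance : (_root_.commutator mclStab).Normal) with h | h
  · exfalso
    have hm := Subgroup.commutator_mem_commutator (Subgroup.mem_top bH) (Subgroup.mem_top eH)
    rw [← commutator_def, h, Subgroup.mem_bot, commutatorElement_eq_one_iff_mul_comm] at hm
    have h2 := congrArg (fun g : mclStab => enc (g : Co0)) hm
    simp only [Subgroup.coe_mul, enc_mul] at h2
    have hb : enc (bH : Co0) = bCode := (enc_of_sim sim_b).trans codes_eq.1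
    have he : enc (eH : Co0) = eCode := (enc_of_sim sim_m).trans codes_eq.2.2
    rw [hb, he] at h2
    have := nocomm
    rw [h2] at this
    simp at this
  · exact h

theorem getD_tbl (one n : ℕ) (T : DTree ℕ) (i : ℕ) :
    ((List.range n).map (rd one T)).getD i one = tbl one (n, T) i := by
  rcases Nat.lt_or_ge i n with h | h
  · rw [List.getD_eq_getElem _ _ (by simpa using h)]
    simp only [List.getElem_map, List.getElem_range, tbl]
    rw [show Nat.blt i n = true by rw [Nat.blt_eq]; exact h]
  · rw [List.getD_eq_default _ _ (by simpa using h), tbl_default (T := (n, T)) _ h]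

namespace Cover

/-- The elements. -/
noncomputable def elt (i : ℕ) : mclStab := (pick 1 (slpG prog (start3 bH cH eH) 3) sel).getD i 1

theorem elt_code (i : ℕ) : (modelSub mclStab).enc (elt i) = Data.cd oneCode codes i := by
  have h := enc_pick (modelSub mclStab) gens_enc codes_ok i
  exact h.trans (getD_tbl oneCode codes.1 codes.2 i)

variable {W : Wit} {D : Data} {one : ℕ} {mul : ℕ → ℕ → ℕ} {B : ℕ × DTree ℕ} {lo len i : ℕ}

theorem cos_of_chunk (h : W.cosOK D one mul B lo len = true) (hl : lo ≤ i) (hu : i < lo + len) :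
    W.cosOK D one mul B i 1 = true := by
  simp only [Wit.cosOK, List.all_eq_true, List.mem_range'_1] at h ⊢
  exact fun j hj => h j ⟨by omega, by omega⟩

theorem row_of_chunk (h : W.rowOK D one mul B lo len = true) (hl : lo ≤ i) (hu : i < lo + len) :
    W.rowOK D one mul B i 1 = true := by
  simp only [Wit.rowOK, List.all_eq_true, List.mem_range'_1] at h ⊢
  exact fun j hj => h j ⟨by omega, by omega⟩

theorem cos_all (i : ℕ) (hi : i < 15400) : wit.cosOK data oneCode mmulF codes i 1 = true :=
  if h0 : i < 1100 then cos_of_chunk cos_ok0 (by omega) (by omega) else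
  if h1 : i < 2200 then cos_of_chunk cos_ok1 (by omega) (by omega) else
  if h2 : i < 3300 then cos_of_chunk cos_ok2 (by omega) (by omega) else
  if h3 : i < 4400 then cos_of_chunk cos_ok3 (by omega) (by omega) else
  if h4 : i < 5500 then cos_of_chunk cos_ok4 (by omega) (by omega) else
  if h5 : i < 6600 then cos_of_chunk cos_ok5 (by omega) (by omega) else
  if h6 : i < 7700 then cos_of_chunk cos_ok6 (by omega) (by omega) else
  if h7 : i < 8800 then cos_of_chunk cos_ok7 (by omega) (by omega) else
  if h8 : i < 9900 then cos_of_chunk cos_ok8 (by omega) (by omega) else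
  if h9 : i < 11000 then cos_of_chunk cos_ok9 (by omega) (by omega) else
  if h10 : i < 12100 then cos_of_chunk cos_ok10 (by omega) (by omega) else
  if h11 : i < 13200 then cos_of_chunk cos_ok11 (by omega) (by omega) else
  if h12 : i < 14300 then cos_of_chunk cos_ok12 (by omega) (by omega) else
  cos_of_chunk cos_ok13 (by omega) (by omega)

theorem row_all (i : ℕ) (hi : i < 15400) : wit.rowOK data oneCode mmulF codes i 1 = true :=
  if h0 : i < 400 then row_of_chunk row_ok0 (by omega) (by omega) else
  if h1 : i < 800 then row_of_chunk row_ok1 (by omega) (by omega) else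
  if h2 : i < 1200 then row_of_chunk row_ok2 (by omega) (by omega) else
  if h3 : i < 1600 then row_of_chunk row_ok3 (by omega) (by omega) else
  if h4 : i < 2000 then row_of_chunk row_ok4 (by omega) (by omega) else
  if h5 : i < 2400 then row_of_chunk row_ok5 (by omega) (by omega) else
  if h6 : i < 2800 then row_of_chunk row_ok6 (by omega) (by omega) else
  if h7 : i < 3200 then row_of_chunk row_ok7 (by omega) (by omega) else
  if h8 : i < 3600 then row_of_chunk row_ok8 (by omega) (by omega) else
  if h9 : i < 4000 then row_of_chunk row_ok9 (by omega) (by omega) else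
  if h10 : i < 4400 then row_of_chunk row_ok10 (by omega) (by omega) else
  if h11 : i < 4800 then row_of_chunk row_ok11 (by omega) (by omega) else
  if h12 : i < 5200 then row_of_chunk row_ok12 (by omega) (by omega) else
  if h13 : i < 5600 then row_of_chunk row_ok13 (by omega) (by omega) else
  if h14 : i < 6000 then row_of_chunk row_ok14 (by omega) (by omega) else
  if h15 : i < 6400 then row_of_chunk row_ok15 (by omega) (by omega) else
  if h16 : i < 6800 then row_of_chunk row_ok16 (by omega) (by omega) else
  if h17 : i < 7200 then row_of_chunk row_ok17 (by omega) (by omega) else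
  if h18 : i < 7600 then row_of_chunk row_ok18 (by omega) (by omega) else
  if h19 : i < 8000 then row_of_chunk row_ok19 (by omega) (by omega) else
  if h20 : i < 8400 then row_of_chunk row_ok20 (by omega) (by omega) else
  if h21 : i < 8800 then row_of_chunk row_ok21 (by omega) (by omega) else
  if h22 : i < 9200 then row_of_chunk row_ok22 (by omega) (by omega) else
  if h23 : i < 9600 then row_of_chunk row_ok23 (by omega) (by omega) else
  if h24 : i < 10000 then row_of_chunk row_ok24 (by omega) (by omega) else
  if h25 : i < 10400 then row_of_chunk row_ok25 (by omega) (by omega) else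
  if h26 : i < 10800 then row_of_chunk row_ok26 (by omega) (by omega) else
  if h27 : i < 11200 then row_of_chunk row_ok27 (by omega) (by omega) else
  if h28 : i < 11600 then row_of_chunk row_ok28 (by omega) (by omega) else
  if h29 : i < 12000 then row_of_chunk row_ok29 (by omega) (by omega) else
  if h30 : i < 12400 then row_of_chunk row_ok30 (by omega) (by omega) else
  if h31 : i < 12800 then row_of_chunk row_ok31 (by omega) (by omega) else
  if h32 : i < 13200 then row_of_chunk row_ok32 (by omega) (by omega) else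
  if h33 : i < 13600 then row_of_chunk row_ok33 (by omega) (by omega) else
  if h34 : i < 14000 then row_of_chunk row_ok34 (by omega) (by omega) else
  if h35 : i < 14400 then row_of_chunk row_ok35 (by omega) (by omega) else
  if h36 : i < 14800 then row_of_chunk row_ok36 (by omega) (by omega) else
  if h37 : i < 15200 then row_of_chunk row_ok37 (by omega) (by omega) else
  row_of_chunk row_ok38 (by omega) (by omega)

theorem n_eq : wit.n = 15400 := rfl

theorem value_one : ((wit.valueN data 0 wit.n : ℕ) : ZMod 3) = 1 := by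
  rw [n_eq, show (15400 : ℕ) = 1925 + (1925 + (1925 + (1925 + (1925 + (1925 + (1925 + (1925))))))) from rfl]
  simp only [Wit.valueN_add]
  norm_num [val_ok0, val_ok1, val_ok2, val_ok3, val_ok4, val_ok5, val_ok6, val_ok7]
  decide

theorem exists_stem : ∃ (Γ : Type) (_ : Group Γ) (_ : Finite Γ) (σ : Γ →* mclStab),
    Cfsg.IsStemExtension σ ∧ Nonempty (σ.ker ≃* Multiplicative (ZMod 3)) := by
  have e : (modelSub mclStab).mul = mmulF := mmulF_eq.symm
  refine exists_stem_three (modelSub mclStab) data wit (x := elt) (B := codes) elt_code ?_ ?_ ?_ gen_ok ?_ ?_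
    (fun i hi => ?_) (fun i hi => ?_) ?_ ?_ value_one perfect
  · rw [e]; exact inv_ok
  · rw [e]; exact n_ok
  · rw [e]; exact l_ok
  · rw [e]; exact c_ok
  · rw [e]; exact rep_ok
  · rw [e]; exact cos_all i hi
  · rw [e]; exact row_all i hi
  · rw [e]; exact ab_ok
  · rw [card_mclStab]; exact count_ok

end Cover

/-- The bound from one subgroup. -/
theorem part (D : Upper) (p : ℕ) (prog : List (ℕ × ℕ)) (sel codes : List ℕ)
    (hc : pick oneCode (slpN oneCode mmul prog base 3) sel = codes)
    (hNF : D.NF = stdWords p 0 D.W.length)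
    (h1 : D.relsOK oneCode mmul codes = true)
    {pg : List ℕ} (hT : D.sTab oneCode mmul codes = pg) (hp : 0 < p)
    (hsh : pcShape D.rels p D.W.length = true) {segs : List (ℕ × List (List ℕ))}
    (h2 : segsOK p pg 0 segs D.W.length = true)
    (h3 : D.fusOK oneCode mmul codes = true) (h4 : ∀ f ∈ D.K, D.Derived f) (h5 : D.secOK = true) (h6 : D.identOK = true)
    {m : ℕ} (hm : m * D.NF.length = 898128000)
    {Γ : Type*} [Group Γ] [Finite Γ] {σ : Γ →* mclStab} (hσ : Cfsg.IsStemExtension σ) :
    ∃ E : ℕ → Γ, (∀ i, E i ∈ σ.ker) ∧ (∀ i < D.e.length, E i ^ D.d.getD i 0 = 1) ∧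
      ∀ z ∈ σ.ker, z ^ m ∈ Subgroup.closure {y | ∃ i < D.e.length, E i = y} := by
  have hx := fun i => enc_pick (modelSub mclStab) gens_enc hc i
  obtain ⟨E, a, b, hgen⟩ := D.bound_std (modelSub mclStab) p hx hNF h1 hp hsh
    (segs_nodup p pg D hx hT hNF h2) h3 h4 h5 h6 hσ
  exact ⟨E, a, b, fun z hz => hgen z hz m (hm.trans card_mclStab.symm)⟩

theorem ker_cyclic {Γ : Type} [Group Γ] [Finite Γ] {σ : Γ →* mclStab} (hσ : Cfsg.IsStemExtension σ) :
    ∃ π : Multiplicative (ZMod 3) →* σ.ker, Function.Surjective π := by
  obtain ⟨E2, -, -, g2⟩ := part Two.upperData 2 Two.prog Two.sel Two.codes Two.codes_ok rfl Two.rels_ok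
    Two.stab_eq (by norm_num) Two.shape_ok Two.segs_ok Two.fus_ok
    (Two.upperData.derived_of_kOKZ 2 Two.tab_ok Two.k_ok Two.k_ok') Two.sec_ok
    (Two.upperData.identOK_of_identP Two.pS_eq Two.pK_eq Two.ident_ok) (m := 7016625)
    (mul_length_NF Two.upperData (p := 2) rfl (d := 7) rfl (by norm_num)) hσ
  obtain ⟨E, hE, hEd, g3⟩ := part Three.upperData 3 Three.prog Three.sel Three.codes Three.codes_ok rfl Three.rels_ok
    Three.stab_eq (by norm_num) Three.shape_ok Three.segs_ok Three.fus_ok
    (Three.upperData.derived_of_kOKZ 3 Three.tab_ok Three.k_ok Three.k_ok') Three.sec_ok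
    (Three.upperData.identOK_of_identF Three.ident_ok) (m := 1232000)
    (mul_length_NF Three.upperData (p := 3) rfl (d := 6) rfl (by norm_num)) hσ
  obtain ⟨E5, -, -, g5⟩ := part Five.upperData 5 Five.prog Five.sel Five.codes Five.codes_ok rfl Five.rels_ok
    Five.stab_eq (by norm_num) Five.shape_ok Five.segs_ok Five.fus_ok
    (Five.upperData.derived_of_kOKZ 5 Five.tab_ok Five.k_ok Five.k_ok') Five.sec_ok
    (Five.upperData.identOK_of_identP Five.pS_eq Five.pK_eq Five.ident_ok) (m := 7185024)
    (mul_length_NF Five.upperData (p := 5) rfl (d := 3) rfl (by norm_num)) hσ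
  have l2 : Two.upperData.e.length = 0 := rfl
  have l5 : Five.upperData.e.length = 0 := rfl
  have l3 : Three.upperData.e.length = 1 := rfl
  have ld : Three.upperData.d.getD 0 0 = 3 := rfl
  have h0 : E 0 ^ 3 = 1 := by
    have h := hEd 0 (by rw [l3]; norm_num)
    rwa [ld] at h
  refine exists_surj_one hσ.2.1 (hE 0) h0 fun z hz => ?_
  refine pow_coprime_mem hσ (m := 77) (fun e he => ?_) (fun z hz => ?_) hz
  · rw [card_mclStab] at he
    have h7 : ¬ 7 ∣ e := fun h => absurd ((pow_dvd_pow_of_dvd h 2).trans he) (by decide)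
    have h11 : ¬ 11 ∣ e := fun h => absurd ((pow_dvd_pow_of_dvd h 2).trans he) (by decide)
    rw [show (77 : ℕ) = 7 * 11 by norm_num]
    exact Nat.Coprime.mul_right (((by norm_num : Nat.Prime 7).coprime_iff_not_dvd.2 h7).symm)
      (((by norm_num : Nat.Prime 11).coprime_iff_not_dvd.2 h11).symm)
  · have a := g2 z hz
    have b := g3 z hz
    have c := g5 z hz
    simp only [l2, l5, Nat.not_lt_zero, false_and, exists_false, Set.setOf_false, Subgroup.closure_empty,
      Subgroup.mem_bot] at a c
    have e3 : Subgroup.closure {y | ∃ i < Three.upperData.e.length, E i = y} ≤ Subgroup.zpowers (E 0) := by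
      rw [Subgroup.closure_le]
      rintro y ⟨i, hi, rfl⟩
      rw [l3] at hi
      obtain rfl : i = 0 := by omega
      exact Subgroup.mem_zpowers _
    have hk : z ^ Nat.gcd 7016625 7185024 = 1 := pow_gcd_eq_one.2 ⟨a, c⟩
    have hb : z ^ (Nat.gcd 7016625 7185024 : ℕ) ∈ Subgroup.zpowers (E 0) := by rw [hk]; exact one_mem _
    have := mem_pow_gcd (e3 b) hb
    simpa using this
where
  mem_pow_gcd {Γ : Type} [Group Γ] {S : Subgroup Γ} {z : Γ} {a b : ℕ} (ha : z ^ a ∈ S) (hb : z ^ b ∈ S) :
      z ^ Nat.gcd a b ∈ S := by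
    rw [← zpow_natCast, Nat.gcd_eq_gcd_ab, _root_.zpow_add, _root_.zpow_mul, _root_.zpow_mul, zpow_natCast,
      zpow_natCast]
    exact S.mul_mem (S.zpow_mem ha _) (S.zpow_mem hb _)

theorem multiplier : Cfsg.HasCyclicSchurMultiplier mclStab 3 :=
  ⟨Cover.exists_stem, fun _ _ _ _ hσ => ker_cyclic hσ⟩

end CfsgLib.McLMult
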